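import Groth.Agent.H27Quiet.Tower
import Groth.Agent.H27Frob.Etale

/-!
# Étale maps and Frobenius; descent of étale maps along root towers
-/

set_option autoImplicit false
universe u

open CategoryTheory Limits TensorProduct AlgebraicGeometry FrobAlg

namespace Groth.Agent.H27Quiet

variable (p : ℕ) [hp : Fact p.Prime]

/-- The Frobenius of a ring with `p = 0`. -/
noncomputable def frobC (A : CommRingCat.{u}) (h : (p : A) = 0) : A ⟶ A :=
  CommRingCat.ofHom (FrobSch.powHom p A h)

theorem frobC_apply (A : CommRingCat.{u}) (h : (p : A) = 0) (x : A) : frobC p A h x = x ^ p := rfl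

/-- Iterates of the Frobenius. -/
noncomputable def frobN (A : CommRingCat.{u}) (h : (p : A) = 0) : ℕ → (A ⟶ A)
  | 0 => 𝟙 A
  | n + 1 => frobN A h n ≫ frobC p A h

theorem frobN_apply (A : CommRingCat.{u}) (h : (p : A) = 0) (n : ℕ) (x : A) :
    frobN p A h n x = x ^ p ^ n := by
  induction n with
  | zero => rw [pow_zero, pow_one]; rfl
  | succ n ih =>
    change frobC p A h (frobN p A h n x) = _
    rw [ih, frobC_apply, ← pow_mul, pow_succ]

variable {p}

omit hp in
theorem natCast_eq_zero_of_hom {A B : CommRingCat.{u}} (f : A ⟶ B) (h : (p : A) = 0) : (p : B) = 0 := by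
  rw [← map_natCast f.hom, h, map_zero]

theorem comp_frobC {A B : CommRingCat.{u}} (g : A ⟶ B) (hA : (p : A) = 0) (hB : (p : B) = 0) :
    frobC p A hA ≫ g = g ≫ frobC p B hB := by
  ext x
  exact map_pow g.hom x p

/-- The Frobenius square of an étale map is a pushout. -/
theorem isPushout_frobC {A B : CommRingCat.{u}} (g : A ⟶ B) (hg : g.hom.Etale) (hA : (p : A) = 0)
    (hB : (p : B) = 0) : IsPushout g (frobC p A hA) (frobC p B hB) g := by
  rcases subsingleton_or_nontrivial B with hs | hn
  · refine ⟨⟨(comp_frobC g hA hB).symm⟩, ⟨PushoutCocone.IsColimit.mk _ (fun s => s.inl) ?_ ?_ ?_⟩⟩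
    · intro s
      ext x
      change s.inl.hom (x ^ p) = _
      rw [Subsingleton.elim (x ^ p) x]
    · intro s
      ext x
      haveI : Subsingleton s.pt := s.inl.hom.codomain_trivial
      exact Subsingleton.elim _ _
    · intro s m _ _
      ext x
      haveI : Subsingleton s.pt := s.inl.hom.codomain_trivial
      exact Subsingleton.elim _ _
  haveI : Nontrivial A := g.hom.domain_nontrivial
  haveI : CharP A p := (CharP.charP_iff_prime_eq_zero hp.out).mpr hA
  haveI : CharP B p := (CharP.charP_iff_prime_eq_zero hp.out).mpr hB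
  letI := g.hom.toAlgebra
  haveI : Algebra.Etale A B := hg
  have hb := Groth.Agent.H27Frob.bijective_relFrob_of_etale p A B
  have h := CommRingCat.isPushout_tensorProduct A B (Twist p A)
  let e : CommRingCat.of (B ⊗[A] Twist p A) ≅ B := (RingEquiv.ofBijective _ hb).toCommRingCatIso
  refine h.of_iso (Iso.refl _) (Iso.refl _) (toTwist p A).symm.toCommRingCatIso e ?_ ?_ ?_ ?_
  · simp only [Iso.refl_hom, Category.comp_id, Category.id_comp]
    rfl
  · simp only [Iso.refl_hom, Category.id_comp]
    ext a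
    change (toTwist p A).symm (algebraMap A (Twist p A) a) = a ^ p
    rw [algebraMap_twist, RingEquiv.symm_apply_apply]
  · simp only [Iso.refl_hom, Category.id_comp]
    ext b
    change relFrob p A B (b ⊗ₜ[A] (1 : Twist p A)) = b ^ p
    rw [← map_one (toTwist p A), Groth.Agent.H27Frob.relFrob_tmul, map_one, mul_one]
  · ext y
    obtain ⟨a, rfl⟩ := Groth.Agent.H27Frob.exists_eq_tmul p A y
    change relFrob p A B (1 ⊗ₜ[A] toTwist p A a) = g ((toTwist p A).symm (toTwist p A a))
    rw [Groth.Agent.H27Frob.relFrob_tmul, one_pow, one_mul, RingEquiv.symm_apply_apply]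
    rfl

theorem isPushout_frobN {A B : CommRingCat.{u}} (g : A ⟶ B) (hg : g.hom.Etale) (hA : (p : A) = 0)
    (hB : (p : B) = 0) : ∀ n : ℕ, IsPushout g (frobN p A hA n) (frobN p B hB n) g
  | 0 => by
    haveI : IsIso (frobN p A hA 0) := inferInstanceAs (IsIso (𝟙 A))
    haveI : IsIso (frobN p B hB 0) := inferInstanceAs (IsIso (𝟙 B))
    exact IsPushout.of_vert_isIso ⟨by simp [frobN]⟩
  | n + 1 => (isPushout_frobN g hg hA hB n).paste_vert (isPushout_frobC g hg hA hB)

/-- Base change of étale maps. -/
theorem etale_of_isPushout {A A' B B' : CommRingCat.{u}} {g : A ⟶ B} {f : A ⟶ A'} {i : B ⟶ B'}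
    {g' : A' ⟶ B'} (sq : IsPushout g f i g') (hg : g.hom.Etale) : g'.hom.Etale := by
  haveI : AlgebraicGeometry.Etale (Spec.map g) := (HasRingHomProperty.Spec_iff (P := @Etale)).2 hg
  have := MorphismProperty.of_isPullback (P := @AlgebraicGeometry.Etale)
    (isPullback_SpecMap_of_isPushout _ _ _ _ sq) inferInstance
  exact (HasRingHomProperty.Spec_iff (P := @Etale)).1 this

/-- An étale map on top of a root tower descends to the bottom. -/
theorem exists_descend {n : ℕ} {A B C : CommRingCat.{u}} {φ : A ⟶ B} (h : Tower p n φ)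
    (hA : (p : A) = 0) (g : B ⟶ C) (hg : g.hom.Etale) :
    ∃ (C' : CommRingCat.{u}) (e : A ⟶ C') (j : C' ⟶ C), e.hom.Etale ∧ IsPushout φ e g j := by
  have hB : (p : B) = 0 := natCast_eq_zero_of_hom φ hA
  have hC : (p : C) = 0 := natCast_eq_zero_of_hom g hB
  obtain ⟨-, -, hinj⟩ := h.finite_free
  choose F hF using fun b => h.pow_mem hA b
  let Fh : B ⟶ A := CommRingCat.ofHom
    { toFun := F
      map_one' := hinj (by simp [hF])
      map_mul' := fun x y => hinj (by
        change φ.hom (F (x * y)) = φ.hom (F x * F y)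
        rw [map_mul, hF, hF, hF, mul_pow])
      map_zero' := hinj (by simp [hF, zero_pow (pow_pos hp.out.pos n).ne'])
      map_add' := fun x y => hinj (by
        change φ.hom (F (x + y)) = φ.hom (F x + F y)
        rw [map_add, hF, hF, hF, ← frobN_apply p B hB, ← frobN_apply p B hB, ← frobN_apply p B hB,
          map_add]) }
  have hFh : Fh ≫ φ = frobN p B hB n := by
    ext b
    exact (hF b).trans (frobN_apply p B hB n b).symm
  have sq₁ : IsPushout g Fh (pushout.inl g Fh) (pushout.inr g Fh) := IsPushout.of_hasPushout g Fh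
  refine ⟨pushout g Fh, pushout.inr g Fh, sq₁.desc (frobN p C hC n) (φ ≫ g)
    (by rw [← Category.assoc, hFh, (isPushout_frobN g hg hB hC n).w]), etale_of_isPushout sq₁ hg, ?_⟩
  refine (IsPushout.of_top ?_ (sq₁.inr_desc _ _ _) sq₁).flip
  rw [sq₁.inl_desc, hFh]
  exact isPushout_frobN g hg hB hC n

end Groth.Agent.H27Quiet
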