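import Groth.Agent.H27Quiet.Local

/-!
# The Frobenius of a smooth algebra over a perfect ring is an extraction of `p`-th roots
-/

set_option autoImplicit false
universe u

open CategoryTheory Limits AlgebraicGeometry TopologicalSpace Polynomial

namespace Groth.Agent.H27Quiet

variable {p : ℕ}

/-- Localization at the powers of an element. -/
noncomputable abbrev locHom (A : CommRingCat.{u}) (a : A) :
    A ⟶ CommRingCat.of (Localization.Away a) :=
  CommRingCat.ofHom (algebraMap A (Localization.Away a))

/-- `φ` is a root tower locally on the base. -/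
def LocTower (p : ℕ) {A B : CommRingCat.{u}} (φ : A ⟶ B) : Prop :=
  ∀ x : Spec A, ∃ a : A, a ∉ x.asIdeal ∧ ∃ n, Tower p n (pushout.inr φ (locHom A a))

theorem mem_range_locHom {A : CommRingCat.{u}} (a : A) (x : Spec A) :
    x ∈ Set.range (Spec.map (locHom A a)) ↔ a ∉ x.asIdeal := by
  have hr := PrimeSpectrum.localization_away_comap_range (Localization.Away a) a
  exact (Set.ext_iff.mp hr x).trans (PrimeSpectrum.mem_basicOpen a x)

theorem isOpenImmersion_locHom {A : CommRingCat.{u}} (a : A) : IsOpenImmersion (Spec.map (locHom A a)) :=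
  IsOpenImmersion.of_isLocalization a

theorem LocTower.baseChange {A B A' B' : CommRingCat.{u}} {φ : A ⟶ B} {f : A ⟶ A'} {g : B ⟶ B'}
    {φ' : A' ⟶ B'} (sq : IsPushout φ f g φ') (h : LocTower p φ) : LocTower p φ' := by
  intro x'
  obtain ⟨a, ha, n, hn⟩ := h (Spec.map f x')
  refine ⟨f a, ha, n, ?_⟩
  let γ : CommRingCat.of (Localization.Away a) ⟶ CommRingCat.of (Localization.Away (f a)) :=
    CommRingCat.ofHom (IsLocalization.Away.map (Localization.Away a) (Localization.Away (f a)) f.hom a)
  have hγ : locHom A a ≫ γ = f ≫ locHom A' (f a) := by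
    ext y
    simp [γ, locHom, IsLocalization.Away.map, IsLocalization.map_eq]
  have big : IsPushout φ (f ≫ locHom A' (f a)) (g ≫ pushout.inl φ' (locHom A' (f a)))
      (pushout.inr φ' (locHom A' (f a))) :=
    sq.paste_vert (IsPushout.of_hasPushout _ _)
  have top := IsPushout.of_hasPushout φ (locHom A a)
  let δ := top.desc (g ≫ pushout.inl φ' (locHom A' (f a))) (γ ≫ pushout.inr φ' (locHom A' (f a)))
    (by rw [← Category.assoc (locHom A a), hγ]; exact big.w)
  refine hn.of_isPushout (f := γ) (g := δ) (IsPushout.of_top ?_ (top.inr_desc _ _ _) top)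
  rw [top.inl_desc, hγ]
  exact big

theorem appLE_congr_hom {X Y : Scheme.{u}} {f g : Y ⟶ X} (h : f = g) (U : X.Opens) (V : Y.Opens)
    (e₁ : V ≤ f ⁻¹ᵁ U) (e₂ : V ≤ g ⁻¹ᵁ U) : f.appLE U V e₁ = g.appLE U V e₂ := by
  subst h; rfl

theorem app_arrowIso {n : ℕ} {X Y : Scheme.{u}} (f : Y ⟶ X) {Af Bf : CommRingCat.{u}} (ψ : Af ⟶ Bf)
    (hψ : Tower p n ψ) (i : Spec Af ⟶ X) (j : Spec Bf ⟶ Y) [IsOpenImmersion i] [IsOpenImmersion j]
    (w : Spec.map ψ ≫ i = j ≫ f) (hr : f ⁻¹ᵁ i.opensRange = j.opensRange) :
    Tower p n (f.app i.opensRange) := by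
  have hU : i ''ᵁ ⊤ = i.opensRange := Scheme.Hom.image_top_eq_opensRange i
  have hV : j ''ᵁ ⊤ = f ⁻¹ᵁ (i ''ᵁ ⊤) := by
    rw [hU, hr, Scheme.Hom.image_top_eq_opensRange]
  rw [← hU]
  have key : f.app (i ''ᵁ ⊤) ≫ (Y.presheaf.map (homOfLE hV.le).op ≫ (j.appIso ⊤).hom ≫
      (Scheme.ΓSpecIso Bf).hom) = ((i.appIso ⊤).hom ≫ (Scheme.ΓSpecIso Af).hom) ≫ ψ := by
    rw [Category.assoc, ← Scheme.ΓSpecIso_naturality, ← Category.assoc, ← Category.assoc,
      ← Category.assoc (i.appIso ⊤).hom]
    congr 1
    rw [Scheme.Hom.appIso_hom', Scheme.Hom.appIso_hom', Category.assoc, Scheme.Hom.map_appLE,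
      Scheme.Hom.app_eq_appLE, Scheme.Hom.appLE_comp_appLE, Scheme.Hom.appTop,
      Scheme.Hom.app_eq_appLE]
    refine Eq.trans ?_ (Scheme.Hom.appLE_comp_appLE (Spec.map ψ) i _ _ _ _ _).symm
    exact appLE_congr_hom w.symm _ _ _ _
  haveI : IsIso (Y.presheaf.map (homOfLE hV.le).op) := by
    have : homOfLE hV.le = eqToHom hV := rfl
    rw [this, eqToHom_op]
    infer_instance
  exact tower_iff_of_arrowIso ((i.appIso ⊤) ≪≫ Scheme.ΓSpecIso Af).symm
    (asIso (Y.presheaf.map (homOfLE hV.le).op ≫ (j.appIso ⊤).hom ≫ (Scheme.ΓSpecIso Bf).hom)).symm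
    (by
      rw [Iso.symm_hom, Iso.symm_hom, Iso.comp_inv_eq, Category.assoc, asIso_hom, key, ← Category.assoc,
        ← Iso.trans_hom, Iso.inv_hom_id, Category.id_comp]) hψ

theorem LocTower.isPthRoot {A B : CommRingCat.{u}} {φ : A ⟶ B} (h : LocTower p φ) :
    Quiet.IsPthRoot p (Spec.map φ) := by
  intro x
  obtain ⟨a, ha, n, hn⟩ := h x
  haveI := isOpenImmersion_locHom a
  have sq := isPullback_SpecMap_of_isPushout _ _ _ _ (IsPushout.of_hasPushout φ (locHom A a))
  haveI : IsOpenImmersion (Spec.map (pushout.inl φ (locHom A a))) :=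
    MorphismProperty.of_isPullback (P := @IsOpenImmersion) sq.flip inferInstance
  have hr : Spec.map φ ⁻¹ᵁ (Spec.map (locHom A a)).opensRange =
      (Spec.map (pushout.inl φ (locHom A a))).opensRange := by
    ext y
    exact ((Set.ext_iff.mp (range_fst_of_isPullback sq)) y).symm
  refine ⟨⟨(Spec.map (locHom A a)).opensRange, isAffineOpen_opensRange _⟩, (mem_range_locHom a x).mpr ha,
    ?_, n, ?_⟩
  · rw [hr]
    exact isAffineOpen_opensRange _
  · exact app_arrowIso (Spec.map φ) _ hn (Spec.map (locHom A a)) (Spec.map (pushout.inl φ (locHom A a)))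
      sq.w.symm hr

variable [hp : Fact p.Prime]

theorem LocTower.flat {A B : CommRingCat.{u}} {φ : A ⟶ B} (h : LocTower p φ) : φ.hom.Flat := by
  choose a ha n hn using h
  refine RingHom.Flat.ofLocalizationSpanTarget φ.hom (Set.range fun x => φ (a x)) ?_ ?_
  · by_contra hne
    obtain ⟨m, hm, hle⟩ := Ideal.exists_le_maximal _ hne
    exact ha (Spec.map φ ⟨m, hm.isPrime⟩) (hle (Ideal.subset_span ⟨_, rfl⟩))
  · rintro ⟨_, x, rfl⟩
    have h1 : (pushout.inr φ (locHom A (a x))).hom.Flat := by
      letI := (pushout.inr φ (locHom A (a x))).hom.toAlgebra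
      haveI := (hn x).finite_free.2.1
      exact inferInstanceAs (Module.Flat _ _)
    have h2 : (locHom A (a x) ≫ pushout.inr φ (locHom A (a x))).hom.Flat := by
      rw [CommRingCat.hom_comp]
      exact RingHom.Flat.comp (RingHom.flat_algebraMap_iff.mpr
        (IsLocalization.flat _ (Submonoid.powers (a x)))) h1
    let γ : CommRingCat.of (Localization.Away (a x)) ⟶ CommRingCat.of (Localization.Away (φ (a x))) :=
      CommRingCat.ofHom (IsLocalization.Away.map (Localization.Away (a x)) (Localization.Away (φ (a x))) φ.hom (a x))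
    have hu : IsUnit ((pushout.inl φ (locHom A (a x))).hom (φ (a x))) := by
      rw [show (pushout.inl φ (locHom A (a x))).hom (φ (a x)) =
        (pushout.inr φ (locHom A (a x))).hom (algebraMap A (Localization.Away (a x)) (a x)) from
          congrArg (fun k : A ⟶ pushout φ (locHom A (a x)) => k (a x)) pushout.condition]
      exact (IsLocalization.Away.algebraMap_isUnit _).map _
    let ε : CommRingCat.of (Localization.Away (φ (a x))) ⟶ pushout φ (locHom A (a x)) :=
      CommRingCat.ofHom (IsLocalization.Away.lift (φ (a x)) hu)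
    let δ : pushout φ (locHom A (a x)) ⟶ CommRingCat.of (Localization.Away (φ (a x))) :=
      pushout.desc (locHom B (φ (a x))) γ (by
        ext y
        simp [γ, locHom, IsLocalization.Away.map, IsLocalization.map_eq])
    have h3 : ε ≫ δ = 𝟙 _ := by
      apply CommRingCat.hom_ext
      refine IsLocalization.ringHom_ext (Submonoid.powers (φ (a x))) ?_
      ext y
      change δ.hom (IsLocalization.Away.lift (φ (a x)) hu (algebraMap B _ y)) = algebraMap B _ y
      rw [IsLocalization.Away.lift_eq]
      exact congrArg (fun k : B ⟶ _ => k y) (pushout.inl_desc _ _ _)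
    have h4 : δ ≫ ε = 𝟙 _ := by
      apply pushout.hom_ext
      · rw [← Category.assoc, pushout.inl_desc, Category.comp_id]
        ext y
        exact IsLocalization.Away.lift_eq _ hu y
      · rw [← Category.assoc, pushout.inr_desc, Category.comp_id]
        apply CommRingCat.hom_ext
        refine IsLocalization.ringHom_ext (Submonoid.powers (a x)) ?_
        ext y
        refine Eq.trans ?_ (congrArg (fun k : A ⟶ _ => k y) pushout.condition)
        refine Eq.trans (congrArg (fun t => ε.hom t) (show γ.hom (algebraMap A (Localization.Away (a x)) y) = algebraMap B (Localization.Away (φ (a x))) (φ.hom y) by simp [γ, IsLocalization.Away.map, IsLocalization.map_eq])) ?_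
        exact IsLocalization.Away.lift_eq _ hu (φ y)
    have hδ : IsIso δ := ⟨ε, h4, h3⟩
    have h5 : φ ≫ locHom B (φ (a x)) = (locHom A (a x) ≫ pushout.inr φ (locHom A (a x))) ≫ δ := by
      rw [← pushout.condition, Category.assoc, pushout.inl_desc]
    change (φ ≫ locHom B (φ (a x))).hom.Flat
    rw [h5, CommRingCat.hom_comp]
    exact RingHom.Flat.comp h2 (RingHom.Flat.of_bijective (ConcreteCategory.bijective_of_isIso δ))

/-- The Frobenius of a polynomial ring over a perfect ring is a tower. -/
theorem exists_tower_frob_mvPolynomial (k : CommRingCat.{u}) (h0 : (p : k) = 0)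
    (hk : Function.Bijective fun x : k => x ^ p) :
    ∀ (n : ℕ) (h : (p : CommRingCat.of (MvPolynomial (Fin n) k)) = 0),
      ∃ m, Tower p m (frobC p (CommRingCat.of (MvPolynomial (Fin n) k)) h) := by
  intro n
  induction n with
  | zero =>
    intro h
    refine ⟨0, (tower_zero_iff _).2 ((ConcreteCategory.isIso_iff_bijective _).2 ?_)⟩
    let e := MvPolynomial.isEmptyAlgEquiv k (Fin 0)
    have he : (fun x : MvPolynomial (Fin 0) k => x ^ p) = e.symm ∘ (fun x : k => x ^ p) ∘ e := by
      funext x
      exact e.injective (by simp)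
    change Function.Bijective fun x : MvPolynomial (Fin 0) k => x ^ p
    rw [he]
    exact e.symm.bijective.comp (hk.comp e.bijective)
  | succ n ih =>
    intro h
    let R : CommRingCat.{u} := CommRingCat.of (MvPolynomial (Fin n) k)
    have hR : (p : R) = 0 := natCast_eq_zero_of_hom (CommRingCat.ofHom (algebraMap k (MvPolynomial (Fin n) k))) h0
    obtain ⟨m, hm⟩ := ih hR
    let R' : CommRingCat.{u} := CommRingCat.of R[X]
    let E : CommRingCat.of (MvPolynomial (Fin (n + 1)) k) ≅ R' :=
      (MvPolynomial.finSuccEquiv k n).toRingEquiv.toCommRingCatIso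
    let c : R ⟶ R' := CommRingCat.ofHom Polynomial.C
    let μ : R' ⟶ R' := CommRingCat.ofHom (Polynomial.mapRingHom (frobC p R hR).hom)
    have sq : IsPushout (frobC p R hR) c c μ := by
      have w : frobC p R hR ≫ c = c ≫ μ := by
        apply CommRingCat.hom_ext
        refine RingHom.ext fun x => ?_
        exact (Polynomial.map_C _).symm
      refine ⟨⟨w⟩, ⟨PushoutCocone.IsColimit.mk w
        (fun s => CommRingCat.ofHom (Polynomial.eval₂RingHom s.inl.hom (s.inr.hom X))) ?_ ?_ ?_⟩⟩
      · intro s
        apply CommRingCat.hom_ext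
        refine RingHom.ext fun x => ?_
        exact Polynomial.eval₂_C _ _
      · intro s
        apply CommRingCat.hom_ext
        apply Polynomial.ringHom_ext
        · intro x
          change Polynomial.eval₂ _ _ (Polynomial.map _ (C x)) = _
          rw [Polynomial.map_C, Polynomial.eval₂_C]
          exact congrArg (fun k : R ⟶ s.pt => k x) s.condition
        · change Polynomial.eval₂ _ _ (Polynomial.map _ X) = _
          rw [Polynomial.map_X, Polynomial.eval₂_X]
      · intro s m hl hr
        apply CommRingCat.hom_ext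
        apply Polynomial.ringHom_ext
        · intro x
          refine Eq.trans ?_ (Polynomial.eval₂_C _ _).symm
          exact congrArg (fun k : R ⟶ s.pt => k x) hl
        · refine Eq.trans ?_ (Polynomial.eval₂_X _ _).symm
          refine Eq.trans ?_ (congrArg (fun k : R' ⟶ s.pt => k X) hr)
          exact congrArg m.hom (Polynomial.map_X _).symm
    let ε : R' ⟶ R' := CommRingCat.ofHom (Polynomial.expand R p).toRingHom
    let q : (R[X])[X] := X ^ p - C (X : R[X])
    have heval : q.eval₂ (Polynomial.expand R p).toRingHom (X : R[X]) = 0 := by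
      simp [q]
    let u : CommRingCat.of (Quiet.RootRing p R' (X : R[X])) ⟶ R' :=
      CommRingCat.ofHom (AdjoinRoot.lift _ _ heval)
    let v : R' ⟶ CommRingCat.of (Quiet.RootRing p R' (X : R[X])) :=
      CommRingCat.ofHom (Polynomial.eval₂RingHom ((AdjoinRoot.of q).comp C) (AdjoinRoot.root q))
    have hvX : v.hom X = AdjoinRoot.root q := Polynomial.eval₂_X _ _
    have hvC : ∀ r, v.hom (C r) = AdjoinRoot.of q (C r) := fun r => Polynomial.eval₂_C _ _
    have huv : v ≫ u = 𝟙 _ := by
      apply CommRingCat.hom_ext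
      apply Polynomial.ringHom_ext
      · intro r
        change u.hom (v.hom (C r)) = C r
        rw [hvC]
        exact (AdjoinRoot.lift_of heval).trans (Polynomial.expand_C _ _)
      · change u.hom (v.hom X) = X
        rw [hvX]
        exact AdjoinRoot.lift_root heval
    have hvu : u ≫ v = 𝟙 _ := by
      apply CommRingCat.hom_ext
      apply AdjoinRoot.ringHom_ext
      · apply Polynomial.ringHom_ext
        · intro r
          change v.hom (u.hom (AdjoinRoot.of q (C r))) = AdjoinRoot.of q (C r)
          rw [show u.hom (AdjoinRoot.of q (C r)) = C r from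
            (AdjoinRoot.lift_of heval).trans (Polynomial.expand_C _ _), hvC]
        · change v.hom (u.hom (AdjoinRoot.of q X)) = AdjoinRoot.of q X
          rw [show u.hom (AdjoinRoot.of q X) = X ^ p from
            (AdjoinRoot.lift_of heval).trans (Polynomial.expand_X _), map_pow, hvX]
          have := AdjoinRoot.eval₂_root q
          rwa [eval₂_sub, eval₂_X_pow, eval₂_C, sub_eq_zero] at this
      · change v.hom (u.hom (AdjoinRoot.root q)) = AdjoinRoot.root q
        rw [show u.hom (AdjoinRoot.root q) = X from AdjoinRoot.lift_root heval, hvX]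
    have hε : Tower p 1 ε := by
      haveI : IsIso u := ⟨v, hvu, huv⟩
      have he : step p R' (X : R[X]) ≫ u = ε := by
        apply CommRingCat.hom_ext
        refine RingHom.ext fun r => ?_
        exact AdjoinRoot.lift_of heval
      rw [← he]
      exact (tower_step _).comp_iso u
    refine ⟨1 + m, tower_iff_of_arrowIso E.symm E.symm ?_ ((hm.of_isPushout sq).comp hε)⟩
    rw [Iso.symm_hom, ← comp_frobC E.inv (natCast_eq_zero_of_hom c hR) h]
    congr 1
    apply CommRingCat.hom_ext
    apply Polynomial.ringHom_ext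
    · intro r
      change Polynomial.expand R p (Polynomial.map _ (C r)) = (C r) ^ p
      rw [Polynomial.map_C, Polynomial.expand_C, ← C_pow]
      rfl
    · change Polynomial.expand R p (Polynomial.map _ X) = X ^ p
      rw [Polynomial.map_X, Polynomial.expand_X]

/-- The Frobenius of a smooth algebra over a perfect ring is locally a tower. -/
theorem locTower_frobC_of_smooth (k : CommRingCat.{u}) (h0 : (p : k) = 0)
    (hk : Function.Bijective fun x : k => x ^ p) (A : CommRingCat.{u}) [Algebra k A]
    [Algebra.Smooth k A] (hA : (p : A) = 0) : LocTower p (frobC p A hA) := by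
  intro x
  obtain ⟨s, hs, hstd⟩ := Algebra.Smooth.exists_span_eq_top_isStandardSmooth k A
  obtain ⟨a, has, ha⟩ : ∃ a ∈ s, a ∉ x.asIdeal := by
    by_contra hc
    push Not at hc
    exact x.isPrime.ne_top (top_le_iff.mp (hs ▸ Ideal.span_le.mpr hc))
  refine ⟨a, ha, ?_⟩
  haveI : Algebra.IsStandardSmooth k (Localization.Away a) := hstd a has
  obtain ⟨ι, σ, _, _, ⟨S⟩⟩ := Algebra.IsStandardSmooth.out (R := k) (S := Localization.Away a)
  haveI : Algebra.IsStandardSmoothOfRelativeDimension S.dimension k (Localization.Away a) :=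
    S.isStandardSmoothOfRelativeDimension rfl
  obtain ⟨g, hg⟩ := Algebra.IsStandardSmoothOfRelativeDimension.exists_etale_mvPolynomial S.dimension k
    (Localization.Away a)
  let P : CommRingCat.{u} := CommRingCat.of (MvPolynomial (Fin S.dimension) k)
  have hP : (p : P) = 0 :=
    natCast_eq_zero_of_hom (CommRingCat.ofHom (algebraMap k (MvPolynomial (Fin S.dimension) k))) h0
  obtain ⟨m, hm⟩ := exists_tower_frob_mvPolynomial k h0 hk S.dimension hP
  have hAa : (p : CommRingCat.of (Localization.Away a)) = 0 := natCast_eq_zero_of_hom (locHom A a) hA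
  have h1 : Tower p m (frobC p (CommRingCat.of (Localization.Away a)) hAa) :=
    hm.of_isPushout (isPushout_frobC (CommRingCat.ofHom g.toRingHom : P ⟶ _) hg hP hAa).flip
  have hloc : (locHom A a).hom.Etale := by
    haveI : Algebra.Etale A (Localization.Away a) := Algebra.Etale.of_isLocalizationAway a
    exact RingHom.etale_algebraMap.mpr inferInstance
  have sq := (isPushout_frobC (locHom A a) hloc hA hAa).flip
  exact ⟨m, sq.inr_isoPushout_hom ▸ h1.comp_iso sq.isoPushout.hom⟩

end Groth.Agent.H27Quiet
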