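import Groth.Agent.H27Quiet.Etale

/-!
# Quasi-étale morphisms in local affine data
-/

set_option autoImplicit false
universe u

open CategoryTheory Limits AlgebraicGeometry TopologicalSpace

namespace Groth.Agent.H27Quiet

variable {p : ℕ} {X Y : Scheme.{u}}

/-- Local data: near `y` the morphism is a root tower of affine schemes followed by an étale map. -/
def LocalData (p : ℕ) (f : Y ⟶ X) (y : Y) : Prop :=
  ∃ (A B : CommRingCat.{u}) (φ : A ⟶ B) (n : ℕ) (j : Spec B ⟶ Y) (e : Spec A ⟶ X),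
    IsOpenImmersion j ∧ Etale e ∧ Tower p n φ ∧ y ∈ Set.range j ∧ Spec.map φ ≫ e = j ≫ f

theorem tower_iff_of_arrowIso {n : ℕ} {A B A' B' : CommRingCat.{u}} {φ : A ⟶ B} {φ' : A' ⟶ B'}
    (a : A ≅ A') (b : B ≅ B') (w : φ ≫ b.hom = a.hom ≫ φ') (h : Tower p n φ) : Tower p n φ' := by
  rw [show φ' = a.inv ≫ φ ≫ b.hom by rw [w, Iso.inv_hom_id_assoc]]
  exact (h.comp_iso b.hom).iso_comp a.inv

theorem isPthRoot_of_affine {n : ℕ} {A B : CommRingCat.{u}} (φ : A ⟶ B) (h : Tower p n φ)
    {Z : Scheme.{u}} (i : Z ⟶ Spec B) [IsIso i] : Quiet.IsPthRoot p (i ≫ Spec.map φ) := by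
  intro x
  haveI : IsAffine Z := IsAffine.of_isIso i
  have hi : IsIso i.appTop := inferInstanceAs (IsIso (Scheme.Γ.map i.op))
  refine ⟨⟨⊤, isAffineOpen_top _⟩, trivial, isAffineOpen_top _, n, ?_⟩
  refine tower_iff_of_arrowIso (Scheme.ΓSpecIso A).symm ((Scheme.ΓSpecIso B).symm ≪≫ @asIso _ _ _ _ i.appTop hi)
    ?_ h
  change φ ≫ (Scheme.ΓSpecIso B).inv ≫ i.appTop = (Scheme.ΓSpecIso A).inv ≫ (i ≫ Spec.map φ).appTop
  rw [Scheme.Hom.comp_appTop, Scheme.ΓSpecIso_inv_naturality_assoc]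

/-- Quasi-étale morphisms are those with local data everywhere. -/
theorem isQuiet_iff (f : Y ⟶ X) : Quiet.IsQuiet p f ↔ ∀ y, LocalData p f y := by
  constructor
  · intro h y
    obtain ⟨V, Y', r, e, hy, hr, he, w⟩ := h y
    obtain ⟨U, hyU, hU', n, hn⟩ := hr (r ⟨y, hy⟩)
    haveI := he
    refine ⟨Γ(Y', U.1), Γ(V, r ⁻¹ᵁ U.1), r.app U.1, n, hU'.fromSpec ≫ V.ι, U.2.fromSpec ≫ e,
      inferInstance, inferInstance, hn, ?_, ?_⟩
    · obtain ⟨q, hq⟩ : (⟨y, hy⟩ : V) ∈ Set.range hU'.fromSpec := by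
        rw [hU'.range_fromSpec]; exact hyU
      refine ⟨q, ?_⟩
      rw [Scheme.Hom.comp_apply, hq]
      rfl
    · rw [Scheme.Hom.app_eq_appLE, ← Category.assoc, U.2.SpecMap_appLE_fromSpec r hU',
        Category.assoc, Category.assoc, w]
  · intro h y
    obtain ⟨A, B, φ, n, j, e, hj, he, hT, hy, w⟩ := h y
    exact ⟨j.opensRange, Spec A, j.isoOpensRange.inv ≫ Spec.map φ, e, hy,
      isPthRoot_of_affine φ hT j.isoOpensRange.inv, he,
      by rw [Category.assoc, w, ← Category.assoc, Scheme.Hom.isoOpensRange_inv_comp]⟩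

theorem natCast_eq_zero_of_isCharP [FrobSch.IsCharP X p] {A : CommRingCat.{u}} (e : Spec A ⟶ X) :
    (p : A) = 0 := by
  rw [← map_natCast ((Scheme.ΓSpecIso A).hom.hom.comp e.appTop.hom),
    FrobSch.IsCharP.natCast_eq_zero, map_zero]

theorem range_fst_of_isPullback {P S T : Scheme.{u}} {a : P ⟶ S} {b : P ⟶ T} {c : S ⟶ X} {d : T ⟶ X}
    (h : IsPullback a b c d) : Set.range a = c ⁻¹' Set.range d := by
  rw [← h.isoPullback_hom_fst, Scheme.Hom.comp_base, TopCat.coe_comp, Set.range_comp,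
    Function.Surjective.range_eq h.isoPullback.hom.surjective, Set.image_univ,
    Scheme.Pullback.range_fst]

theorem exists_basicOpen {A : CommRingCat.{u}} (U : (Spec A).Opens) (t : Spec A) (ht : t ∈ U) :
    ∃ a : A, t ∈ Set.range (Spec.map (CommRingCat.ofHom (algebraMap A (Localization.Away a)))) ∧
      Set.range (Spec.map (CommRingCat.ofHom (algebraMap A (Localization.Away a)))) ⊆ (U : Set _) := by
  obtain ⟨_, ⟨a, rfl⟩, hta, haU⟩ :=
    PrimeSpectrum.isTopologicalBasis_basic_opens.exists_subset_of_mem_open ht U.2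
  refine ⟨a, ?_⟩
  have hr := PrimeSpectrum.localization_away_comap_range (Localization.Away a) a
  exact ⟨(Set.ext_iff.mp hr t).mpr hta, fun x hx => haU ((Set.ext_iff.mp hr x).mp hx)⟩

/-- Local data are stable under base change. -/
theorem LocalData.baseChange {X' Y' : Scheme.{u}} {f : Y ⟶ X} {g : X' ⟶ X} {f' : Y' ⟶ X'}
    {g' : Y' ⟶ Y} (H : IsPullback g' f' f g) {y' : Y'} (h : LocalData p f (g' y')) :
    LocalData p f' y' := by
  obtain ⟨A, B, φ, n, j, e, hj, he, hT, hy, w⟩ := h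
  have HQ : IsPullback (pullback.snd g' j) (pullback.fst g' j ≫ f') (j ≫ f) g :=
    (IsPullback.of_hasPullback g' j).flip.paste_vert H
  have HP : IsPullback (pullback.snd g e) (pullback.fst g e) e g :=
    (IsPullback.of_hasPullback g e).flip
  let u : pullback g' j ⟶ pullback g e :=
    pullback.lift (pullback.fst g' j ≫ f') (pullback.snd g' j ≫ Spec.map φ)
      (by rw [Category.assoc (pullback.snd g' j), w]; exact HQ.w.symm)
  have Hu : IsPullback (pullback.snd g' j) u (Spec.map φ) (pullback.snd g e) := by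
    refine IsPullback.of_bot ?_ ?_ HP
    · rw [w, pullback.lift_fst]
      exact HQ
    · exact (pullback.lift_snd _ _ _).symm
  have hQy : y' ∈ Set.range (pullback.fst g' j) := by
    rw [Scheme.Pullback.range_fst]
    exact hy
  obtain ⟨q, hq⟩ := hQy
  obtain ⟨W, hW, hqW, -⟩ := Opens.isBasis_iff_nbhd.mp (pullback g e).isBasis_affineOpens
    (Opens.mem_top (u q))
  let A' : CommRingCat.{u} := Γ(pullback g e, W)
  let wA : Spec A' ⟶ pullback g e := hW.fromSpec
  let α : A ⟶ A' := Spec.preimage (wA ≫ pullback.snd g e)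
  have hB := IsPushout.of_hasPushout φ α
  let k : Spec (pushout φ α) ⟶ pullback g' j :=
    Hu.lift (Spec.map (pushout.inl φ α)) (Spec.map (pushout.inr φ α) ≫ wA) (by
      rw [Category.assoc, ← Spec.map_preimage (wA ≫ pullback.snd g e), ← Spec.map_comp, ← Spec.map_comp,
        pushout.condition])
  have hk : IsPullback k (Spec.map (pushout.inr φ α)) u wA := by
    refine IsPullback.of_right ?_ (Hu.lift_snd _ _ _) Hu
    rw [Hu.lift_fst, ← Spec.map_preimage (wA ≫ pullback.snd g e)]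
    exact isPullback_SpecMap_of_isPushout _ _ _ _ hB
  haveI : IsOpenImmersion k :=
    MorphismProperty.of_isPullback (P := @IsOpenImmersion) hk.flip inferInstance
  haveI : Etale (pullback.fst g e) := MorphismProperty.pullback_fst g e he
  refine ⟨A', pushout φ α, pushout.inr φ α, n, k ≫ pullback.fst g' j, wA ≫ pullback.fst g e,
    inferInstance, inferInstance, hT.of_isPushout hB, ?_, ?_⟩
  · have hu : u q ∈ Set.range wA := by rw [hW.range_fromSpec]; exact hqW
    have hqk : q ∈ Set.range k := by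
      rw [range_fst_of_isPullback hk]
      exact hu
    obtain ⟨z, hz⟩ := hqk
    exact ⟨z, by rw [Scheme.Hom.comp_apply, hz, hq]⟩
  · rw [← Category.assoc, ← hk.w, Category.assoc, pullback.lift_fst, Category.assoc]

/-- Local data compose, in characteristic `p`. -/
theorem LocalData.comp [Fact p.Prime] [FrobSch.IsCharP X p] {Z : Scheme.{u}} {f : Y ⟶ X}
    {g : Z ⟶ Y} {z : Z} (hg : LocalData p g z) (hf : LocalData p f (g z)) :
    LocalData p (g ≫ f) z := by
  obtain ⟨A, B, φ, n, j, e, hj, he, hT, hy, w⟩ := hf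
  obtain ⟨A₂, B₂, φ₂, n₂, j₂, e₂, hj₂, he₂, hT₂, ⟨q, hq⟩, w₂⟩ := hg
  have ht : Spec.map φ₂ q ∈ e₂ ⁻¹ᵁ j.opensRange := by
    change e₂ (Spec.map φ₂ q) ∈ Set.range j
    rw [← Scheme.Hom.comp_apply, w₂, Scheme.Hom.comp_apply, hq]
    exact hy
  obtain ⟨a, hta, haU⟩ := exists_basicOpen _ _ ht
  let C : CommRingCat.{u} := CommRingCat.of (Localization.Away a)
  let loc : A₂ ⟶ C := CommRingCat.ofHom (algebraMap A₂ (Localization.Away a))
  haveI : IsOpenImmersion (Spec.map loc) := IsOpenImmersion.of_isLocalization a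
  have hB₂ := IsPushout.of_hasPushout φ₂ loc
  have hp2 := isPullback_SpecMap_of_isPushout _ _ _ _ hB₂
  haveI : IsOpenImmersion (Spec.map (pushout.inl φ₂ loc)) :=
    MorphismProperty.of_isPullback (P := @IsOpenImmersion) hp2.flip inferInstance
  have hsub : Set.range (Spec.map loc ≫ e₂) ⊆ Set.range j := by
    rintro _ ⟨c, rfl⟩
    rw [Scheme.Hom.comp_apply]
    exact haU ⟨c, rfl⟩
  let d : Spec C ⟶ Spec B := IsOpenImmersion.lift j (Spec.map loc ≫ e₂) hsub
  have hd : d ≫ j = Spec.map loc ≫ e₂ := IsOpenImmersion.lift_fac _ _ _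
  haveI : Etale d := by
    haveI : Etale (d ≫ j) := hd ▸ inferInstance
    exact Etale.of_comp d j
  let γ : B ⟶ C := Spec.preimage d
  have hγ : γ.hom.Etale := (HasRingHomProperty.Spec_iff (P := @Etale)).1
    (by rw [Spec.map_preimage]; infer_instance)
  obtain ⟨C', e', j', he', hC'⟩ := exists_descend hT (natCast_eq_zero_of_isCharP e) γ hγ
  haveI : Etale (Spec.map e') := (HasRingHomProperty.Spec_iff (P := @Etale)).2 he'
  refine ⟨C', pushout φ₂ loc, j' ≫ pushout.inr φ₂ loc, _, Spec.map (pushout.inl φ₂ loc) ≫ j₂,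
    Spec.map e' ≫ e, inferInstance, inferInstance,
    (hT.of_isPushout hC').comp (hT₂.of_isPushout hB₂), ?_, ?_⟩
  · have hq' : q ∈ Set.range (Spec.map (pushout.inl φ₂ loc)) := by
      rw [range_fst_of_isPullback hp2]
      exact hta
    obtain ⟨z', hz'⟩ := hq'
    exact ⟨z', by rw [Scheme.Hom.comp_apply, hz', hq]⟩
  · rw [Spec.map_comp, Category.assoc, ← Category.assoc (Spec.map j'), ← Spec.map_comp, ← hC'.w,
      Spec.map_comp, Category.assoc (Spec.map γ), w, ← Category.assoc (Spec.map γ), Spec.map_preimage, hd,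
      Category.assoc, ← Category.assoc, ← hp2.w, Category.assoc, ← Category.assoc (Spec.map φ₂), w₂]
    simp only [Category.assoc]

end Groth.Agent.H27Quiet
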