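import Groth.Agent.H27Quiet.Local
import Groth.Agent.H9CI.SyntomicScheme
import Groth.Agent.H9CI.Comp
import Groth.Agent.H9Synt.Smooth
import Groth.Agent.H9Synt.RootTower

/-!
# Quasi-étale morphisms are syntomic
-/

set_option autoImplicit false
universe u

open CategoryTheory Limits AlgebraicGeometry TopologicalSpace

namespace Groth.Agent.H27Quiet

open Groth.Agent.H9CI Groth.Agent.H9Synt

variable {p : ℕ} [hp : Fact p.Prime]

theorem Tower.hasSquarePresentation {n : ℕ} {A B : CommRingCat.{u}} {φ : A ⟶ B} (h : Tower p n φ)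
    (R : Type u) [CommRing R] [Algebra R A] (hR : HasSquarePresentation R A) :
    letI := (φ.hom.comp (algebraMap R A)).toAlgebra
    HasSquarePresentation R B := by
  induction n generalizing A with
  | zero =>
    haveI := (tower_zero_iff φ).1 h
    letI := (φ.hom.comp (algebraMap R A)).toAlgebra
    let e : A ≃ₐ[R] B := AlgEquiv.ofBijective
      { toRingHom := φ.hom, commutes' := fun _ => rfl } (ConcreteCategory.bijective_of_isIso φ)
    obtain ⟨m, ψ, F, hψ, hF⟩ := hR
    refine ⟨m, e.toAlgHom.comp ψ, F, e.surjective.comp hψ, ?_⟩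
    rw [← hF]
    ext x
    simp [RingHom.mem_ker]
  | succ n ih =>
    obtain ⟨a, ψ, rfl, hψ⟩ := (tower_succ_iff φ).1 h
    exact ih hψ (hasSquarePresentation_adjoinRoot_step hR _)

theorem Tower.syntomicHom {n : ℕ} {A B : CommRingCat.{u}} {φ : A ⟶ B} (h : Tower p n φ) :
    SyntomicHom φ.hom := by
  obtain ⟨m, ψ, F, hψ, hF⟩ : letI := φ.hom.toAlgebra; HasSquarePresentation (A : Type u) B :=
    h.hasSquarePresentation A (hasSquarePresentation_self A)
  obtain ⟨h1, h2, -⟩ := h.finite_free
  letI := φ.hom.toAlgebra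
  exact isSyntomic_of_finite ψ hψ F hF

theorem syntMor_of_etale {X Y : Scheme.{u}} (e : X ⟶ Y) [Etale e] : syntMor e := by
  rw [HasRingHomProperty.iff_appLE (P := syntMor.{u})]
  intro U V hle
  have h : (e.appLE U.1 V.1 hle).hom.Etale := HasRingHomProperty.appLE @Etale e ‹_› U V hle
  letI := (e.appLE U.1 V.1 hle).hom.toAlgebra
  haveI : Algebra.Etale Γ(Y, U.1) Γ(X, V.1) := h
  exact isSyntomic_of_smooth _ _

theorem stableUnderComposition_syntomicHom : RingHom.StableUnderComposition @SyntomicHom := by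
  intro R S T _ _ _ f g hf hg
  letI := f.toAlgebra
  letI := g.toAlgebra
  letI := (g.comp f).toAlgebra
  haveI : IsScalarTower R S T := IsScalarTower.of_algebraMap_eq fun _ => rfl
  exact isSyntomic_comp hf hg

theorem isSyntomicMor_of_localData {X Y : Scheme.{u}} (f : Y ⟶ X)
    (h : ∀ y, LocalData p f y) : Synt.IsSyntomicMor f := by
  choose A B φ n j e hj he hT hy w using h
  haveI := hj
  rw [isSyntomicMor_iff_syntMor]
  haveI : syntMor.{u}.IsStableUnderComposition :=
    HasRingHomProperty.stableUnderComposition stableUnderComposition_syntomicHom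
  let 𝒰 : Y.OpenCover := Scheme.Cover.mkOfCovers Y (fun y => Spec (B y)) j
    (fun y => ⟨y, (hy y).choose, (hy y).choose_spec⟩) (fun y => hj y)
  refine IsZariskiLocalAtSource.of_openCover 𝒰 fun y => ?_
  change syntMor (j y ≫ f)
  rw [← w y]
  haveI := he y
  exact MorphismProperty.comp_mem _ _ _
    ((isSyntomicMor_iff_syntMor _).mp ((isSyntomicMor_Spec_iff _).mpr (hT y).syntomicHom))
    (syntMor_of_etale _)

end Groth.Agent.H27Quiet
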