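import Groth.Agent.H27Quiet.Local
import Groth.Agent.H18Et.ClosedLift

/-!
# Root towers and quasi-étale morphisms lift along thickenings
-/

set_option autoImplicit false
universe u

open CategoryTheory Limits AlgebraicGeometry TopologicalSpace

namespace Groth.Agent.H27Quiet

variable {p : ℕ}

theorem surjective_of_isPushout {A A' B B' : CommRingCat.{u}} {φ : A ⟶ B} {f : A ⟶ A'} {g : B ⟶ B'}
    {φ' : A' ⟶ B'} (sq : IsPushout φ f g φ') (hf : Function.Surjective f) : Function.Surjective g := by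
  haveI : IsClosedImmersion (Spec.map f) := IsClosedImmersion.spec_of_surjective f hf
  have : IsClosedImmersion (Spec.map g) :=
    MorphismProperty.of_isPullback (P := @IsClosedImmersion)
      (isPullback_SpecMap_of_isPushout _ _ _ _ sq).flip inferInstance
  exact (IsClosedImmersion.isAffine_surjective_of_isAffine (f := Spec.map g)).2 |> fun h => by
    intro b
    obtain ⟨c, hc⟩ := h ((Scheme.ΓSpecIso B').inv b)
    refine ⟨(Scheme.ΓSpecIso B).hom c, ?_⟩
    have hn := congrArg (fun k : Γ(Spec B, ⊤) ⟶ B' => k c) (Scheme.ΓSpecIso_naturality g)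
    refine hn.symm.trans ?_
    rw [CommRingCat.comp_apply]
    change (Scheme.ΓSpecIso B').hom ((Spec.map g).appTop c) = b
    rw [hc, ← CommRingCat.comp_apply, Iso.inv_hom_id]
    rfl

theorem Tower.exists_lift {n : ℕ} {S A' B' : CommRingCat.{u}} {φ' : A' ⟶ B'} (h : Tower p n φ')
    (π : S ⟶ A') (hπ : Function.Surjective π) :
    ∃ (S' : CommRingCat.{u}) (ψ : S ⟶ S') (π' : S' ⟶ B'), Tower p n ψ ∧ IsPushout ψ π π' φ' := by
  induction n generalizing S A' with
  | zero =>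
    haveI := (tower_zero_iff φ').1 h
    exact ⟨S, 𝟙 S, π ≫ φ', (tower_zero_iff _).2 inferInstance, IsPushout.of_horiz_isIso ⟨by simp⟩⟩
  | succ n ih =>
    obtain ⟨a, χ, rfl, hχ⟩ := (tower_succ_iff φ').1 h
    obtain ⟨s, rfl⟩ := hπ a
    obtain ⟨g, sq⟩ := isPushout_step (p := p) π s
    obtain ⟨S', ψ, π', hψ, sq'⟩ := ih hχ g (surjective_of_isPushout sq hπ)
    exact ⟨S', step p S s ≫ ψ, π', (tower_succ_iff _).2 ⟨s, ψ, rfl, hψ⟩, sq.paste_horiz sq'⟩

theorem exists_lift_thickening {T U U' : Scheme.{u}} (i : U ⟶ T) [IsClosedImmersion i] (f' : U' ⟶ U)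
    {u : U'} (h : LocalData p f' u) :
    ∃ (V : U'.Opens) (T' : Scheme.{u}) (q : T' ⟶ T) (j : (V : Scheme.{u}) ⟶ T'),
      u ∈ V ∧ Quiet.IsQuiet p q ∧ IsPullback j (V.ι ≫ f') q i := by
  obtain ⟨A, B, φ, n, j, e, hj, he, hT, ⟨b₀, hb₀⟩, w⟩ := h
  obtain ⟨V, q, W, jW, a, hV, hq, hjW, ⟨w₀, hw₀⟩, hsq⟩ :=
    Groth.Agent.H18Et.exists_etale_lift_closed i e (Spec.map φ b₀)
  haveI : IsClosedImmersion a :=
    MorphismProperty.of_isPullback (P := @IsClosedImmersion) hsq.flip inferInstance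
  haveI : IsAffine W := isAffine_of_isAffineHom a
  let π : Γ(V, ⊤) ⟶ Γ(W, ⊤) := a.appTop
  have hπ : Function.Surjective π := (IsClosedImmersion.isAffine_surjective_of_isAffine (f := a)).2
  have hsq₁ : IsPullback (Spec.map π) (W.isoSpec.inv ≫ jW ≫ e) (V.isoSpec.inv ≫ q) i := by
    refine hsq.of_iso W.isoSpec V.isoSpec (Iso.refl U) (Iso.refl T) ?_ ?_ ?_ ?_
    · exact (Scheme.isoSpec_hom_naturality a).symm
    · simp
    · simp
    · simp
  let α : A ⟶ Γ(W, ⊤) := Spec.preimage (W.isoSpec.inv ≫ jW)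
  have sqB := IsPushout.of_hasPushout φ α
  have hp := isPullback_SpecMap_of_isPushout _ _ _ _ sqB
  haveI : IsOpenImmersion (Spec.map α) := by
    rw [Spec.map_preimage]
    infer_instance
  haveI : IsOpenImmersion (Spec.map (pushout.inl φ α)) :=
    MorphismProperty.of_isPullback (P := @IsOpenImmersion) hp.flip inferInstance
  obtain ⟨S', ψ, π', hψ, sq'⟩ := (hT.of_isPushout sqB).exists_lift π hπ
  have big : IsPullback (Spec.map π') (Spec.map (pushout.inr φ α) ≫ W.isoSpec.inv ≫ jW ≫ e)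
      (Spec.map ψ ≫ V.isoSpec.inv ≫ q) i :=
    (isPullback_SpecMap_of_isPushout _ _ _ _ sq').paste_vert hsq₁
  let j₁ := Spec.map (pushout.inl φ α) ≫ j
  refine ⟨j₁.opensRange, Spec S', Spec.map ψ ≫ V.isoSpec.inv ≫ q, j₁.isoOpensRange.inv ≫ Spec.map π',
    ?_, ?_, ?_⟩
  · obtain ⟨z, hz⟩ : b₀ ∈ Set.range (Spec.map (pushout.inl φ α)) := by
      rw [range_fst_of_isPullback hp, Spec.map_preimage]
      refine ⟨W.isoSpec.hom w₀, ?_⟩
      change (W.isoSpec.inv ≫ jW) (W.isoSpec.hom w₀) = _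
      rw [← Scheme.Hom.comp_apply, Iso.hom_inv_id_assoc, hw₀]
    exact ⟨z, by rw [Scheme.Hom.comp_apply, hz, hb₀]⟩
  · rw [isQuiet_iff]
    intro t
    exact ⟨Γ(V, ⊤), S', ψ, n, 𝟙 _, V.isoSpec.inv ≫ q, inferInstance, inferInstance, hψ, ⟨t, rfl⟩,
      (Category.id_comp _).symm⟩
  · refine big.of_iso j₁.isoOpensRange (Iso.refl _) (Iso.refl _) (Iso.refl _) ?_ ?_ ?_ ?_
    · simp
    · simp only [Iso.refl_hom, Category.comp_id, ← Category.assoc, Scheme.Hom.isoOpensRange_hom_ι]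
      simp only [j₁, Category.assoc]
      rw [← w, ← Category.assoc (Spec.map (pushout.inl φ α)), hp.w, Category.assoc, Spec.map_preimage,
        Category.assoc]
    · simp
    · simp

end Groth.Agent.H27Quiet
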