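import Groth.Prelude.Def_W4c2gaugesfzipsQuiet
import Groth.Prelude.Def_Frob
import Mathlib

/-!
# Towers of `p`-th root extractions as ring homomorphisms
-/

set_option autoImplicit false
universe u

open CategoryTheory Limits Polynomial

namespace Groth.Agent.H27Quiet

variable (p : ℕ)

/-- `φ` is a tower of `n` elementary `p`-th root extractions. -/
def Tower (n : ℕ) {A B : CommRingCat.{u}} (φ : A ⟶ B) : Prop :=
  letI := φ.hom.toAlgebra
  Quiet.IsRootTower p n A B

/-- The elementary extraction. -/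
noncomputable abbrev step (A : CommRingCat.{u}) (a : A) :
    A ⟶ CommRingCat.of (Quiet.RootRing p A a) :=
  CommRingCat.ofHom (AdjoinRoot.of (X ^ p - C a : A[X]))

variable {p} {A A' B B' : CommRingCat.{u}}

theorem tower_zero_iff (φ : A ⟶ B) : Tower p 0 φ ↔ IsIso φ := by
  letI := φ.hom.toAlgebra
  rw [ConcreteCategory.isIso_iff_bijective]
  constructor
  · rintro ⟨e⟩
    have h : (φ : A → B) = e.symm := funext fun a => (e.symm.commutes a).symm
    rw [h]
    exact e.symm.bijective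
  · intro h
    exact ⟨(AlgEquiv.ofBijective (Algebra.ofId A B) h).symm⟩

theorem tower_succ_iff {n : ℕ} (φ : A ⟶ B) :
    Tower p (n + 1) φ ↔
      ∃ (a : A) (ψ : CommRingCat.of (Quiet.RootRing p A a) ⟶ B), step p A a ≫ ψ = φ ∧ Tower p n ψ := by
  letI := φ.hom.toAlgebra
  constructor
  · rintro ⟨a, alg, hst, h⟩
    letI := alg
    haveI := hst
    refine ⟨a, CommRingCat.ofHom alg.algebraMap,
      CommRingCat.hom_ext (IsScalarTower.algebraMap_eq A (Quiet.RootRing p A a) B).symm, ?_⟩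
    change @Quiet.IsRootTower p n _ _ _ _ (alg.algebraMap.toAlgebra)
    convert h
    exact Algebra.algebra_ext _ _ fun _ => rfl
  · rintro ⟨a, ψ, rfl, h⟩
    letI alg : Algebra (Quiet.RootRing p A a) B := ψ.hom.toAlgebra
    exact ⟨a, alg, IsScalarTower.of_algebraMap_eq fun _ => rfl, h⟩

theorem isPushout_step (f : A ⟶ A') (a : A) :
    ∃ g : CommRingCat.of (Quiet.RootRing p A a) ⟶ CommRingCat.of (Quiet.RootRing p A' (f a)),
      IsPushout (step p A a) f g (step p A' (f a)) := by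
  have hmap : (X ^ p - C a : A[X]).map f.hom = X ^ p - C (f a) := by simp
  have heval : (X ^ p - C a : A[X]).eval₂ ((AdjoinRoot.of (X ^ p - C (f a) : A'[X])).comp f.hom)
      (AdjoinRoot.root _) = 0 := by
    rw [← Polynomial.eval₂_map, hmap, AdjoinRoot.eval₂_root]
  let g : CommRingCat.of (Quiet.RootRing p A a) ⟶ CommRingCat.of (Quiet.RootRing p A' (f a)) :=
    CommRingCat.ofHom (AdjoinRoot.lift _ _ heval)
  have w : step p A a ≫ g = f ≫ step p A' (f a) := by
    ext x
    exact AdjoinRoot.lift_of heval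
  have key : ∀ s : PushoutCocone (step p A a) f, (X ^ p - C (f a) : A'[X]).eval₂ s.inr.hom
      (s.inl.hom (AdjoinRoot.root _)) = 0 := fun s => by
    rw [← hmap, Polynomial.eval₂_map,
      show s.inr.hom.comp f.hom = s.inl.hom.comp (AdjoinRoot.of (X ^ p - C a : A[X])) from
        (congrArg CommRingCat.Hom.hom s.condition).symm,
      ← Polynomial.hom_eval₂, AdjoinRoot.eval₂_root, map_zero]
  refine ⟨g, ⟨⟨w⟩, ⟨PushoutCocone.IsColimit.mk w
    (fun s => CommRingCat.ofHom (AdjoinRoot.lift s.inr.hom (s.inl.hom (AdjoinRoot.root _)) (key s)))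
    ?_ ?_ ?_⟩⟩⟩
  · intro s
    apply CommRingCat.hom_ext
    apply AdjoinRoot.ringHom_ext
    · ext x
      change AdjoinRoot.lift s.inr.hom (s.inl.hom (AdjoinRoot.root _)) (key s) (AdjoinRoot.lift _ _ heval (AdjoinRoot.of _ x)) = _
      rw [AdjoinRoot.lift_of, RingHom.comp_apply, AdjoinRoot.lift_of]
      exact (congrArg (fun k : A ⟶ s.pt => k x) s.condition).symm
    · change AdjoinRoot.lift s.inr.hom (s.inl.hom (AdjoinRoot.root _)) (key s) (AdjoinRoot.lift _ _ heval (AdjoinRoot.root _)) = _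
      rw [AdjoinRoot.lift_root, AdjoinRoot.lift_root]
  · intro s
    ext x
    exact AdjoinRoot.lift_of (key s)
  · intro s m hl hr
    apply CommRingCat.hom_ext
    apply AdjoinRoot.ringHom_ext
    · ext x
      refine Eq.trans ?_ (AdjoinRoot.lift_of (key s)).symm
      exact congrArg (fun k : A' ⟶ s.pt => k x) hr
    · refine Eq.trans ?_ (AdjoinRoot.lift_root (key s)).symm
      have := congrArg (fun k : CommRingCat.of (Quiet.RootRing p A a) ⟶ s.pt => k (AdjoinRoot.root _)) hl
      refine Eq.trans ?_ this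
      exact congrArg m.hom (AdjoinRoot.lift_root heval).symm

/-- Towers are stable under base change. -/
theorem Tower.of_isPushout {n : ℕ} {φ : A ⟶ B} {f : A ⟶ A'} {g : B ⟶ B'} {φ' : A' ⟶ B'}
    (sq : IsPushout φ f g φ') (h : Tower p n φ) : Tower p n φ' := by
  induction n generalizing A A' B B' with
  | zero =>
    rw [tower_zero_iff] at h ⊢
    exact sq.isIso_inr_of_isIso
  | succ n ih =>
    obtain ⟨a, ψ, rfl, hψ⟩ := (tower_succ_iff φ).1 h
    obtain ⟨g₁, sq₁⟩ := isPushout_step (p := p) f a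
    let ψ' := sq₁.desc (ψ ≫ g) φ' (by simpa using sq.w)
    have h1 : g₁ ≫ ψ' = ψ ≫ g := sq₁.inl_desc _ _ _
    have h2 : step p A' (f a) ≫ ψ' = φ' := sq₁.inr_desc _ _ _
    have sq₂ : IsPushout ψ g₁ g ψ' := IsPushout.of_left (h2.symm ▸ sq) h1.symm sq₁
    exact (tower_succ_iff _).2 ⟨f a, ψ', h2, ih sq₂ hψ⟩

theorem Tower.comp_iso {n : ℕ} {φ : A ⟶ B} (h : Tower p n φ) (e : B ⟶ B') [IsIso e] :
    Tower p n (φ ≫ e) :=
  h.of_isPushout (IsPushout.of_vert_isIso (f := φ) (g := 𝟙 A) (inl := e) (inr := φ ≫ e) ⟨by simp⟩)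

theorem Tower.iso_comp {n : ℕ} {φ : A ⟶ B} (h : Tower p n φ) (e : A' ⟶ A) [IsIso e] :
    Tower p n (e ≫ φ) :=
  h.of_isPushout (IsPushout.of_vert_isIso (f := φ) (g := inv e) (inl := 𝟙 B) (inr := e ≫ φ) ⟨by simp⟩)

theorem Tower.comp {m n : ℕ} {C : CommRingCat.{u}} {φ : A ⟶ B} {ψ : B ⟶ C} (h : Tower p m φ)
    (h' : Tower p n ψ) : Tower p (n + m) (φ ≫ ψ) := by
  induction m generalizing A B with
  | zero =>
    haveI := (tower_zero_iff φ).1 h
    exact h'.iso_comp φ
  | succ m ih =>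
    obtain ⟨a, χ, rfl, hχ⟩ := (tower_succ_iff φ).1 h
    exact (tower_succ_iff _).2 ⟨a, χ ≫ ψ, by simp, ih hχ h'⟩

theorem tower_step (a : A) : Tower p 1 (step p A a) :=
  (tower_succ_iff _).2 ⟨a, 𝟙 _, Category.comp_id _, (tower_zero_iff _).2 inferInstance⟩

variable [hp : Fact p.Prime]

/-- A tower is injective, finite and free. -/
theorem Tower.finite_free {n : ℕ} {φ : A ⟶ B} (h : Tower p n φ) :
    letI := φ.hom.toAlgebra
    Module.Finite A B ∧ Module.Free A B ∧ Function.Injective φ := by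
  induction n generalizing A with
  | zero =>
    haveI := (tower_zero_iff φ).1 h
    letI := φ.hom.toAlgebra
    let e : A ≃ₐ[A] B := AlgEquiv.ofBijective (Algebra.ofId A B) (ConcreteCategory.bijective_of_isIso φ)
    exact ⟨Module.Finite.equiv e.toLinearEquiv, Module.Free.of_equiv e.toLinearEquiv,
      (ConcreteCategory.bijective_of_isIso φ).1⟩
  | succ n ih =>
    obtain ⟨a, ψ, rfl, hψ⟩ := (tower_succ_iff φ).1 h
    obtain ⟨h1, h2, h3⟩ := ih hψ
    letI := (step p A a ≫ ψ).hom.toAlgebra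
    letI := ψ.hom.toAlgebra
    let R₁ := Quiet.RootRing p A a
    haveI : IsScalarTower A R₁ B := IsScalarTower.of_algebraMap_eq fun _ => rfl
    have hm : (X ^ p - C a : A[X]).Monic := monic_X_pow_sub_C a hp.out.ne_zero
    haveI := hm.finite_adjoinRoot
    haveI := hm.free_adjoinRoot
    haveI : Module.Finite R₁ B := h1
    haveI : Module.Free R₁ B := h2
    refine ⟨Module.Finite.trans R₁ B, Module.Free.trans (S := R₁), fun x y hxy => ?_⟩
    rcases subsingleton_or_nontrivial A with hA | hA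
    · exact Subsingleton.elim _ _
    have h4 : AdjoinRoot.of (X ^ p - C a : A[X]) x = AdjoinRoot.of (X ^ p - C a : A[X]) y := h3 hxy
    rw [← sub_eq_zero, ← map_sub] at h4
    by_contra hne
    refine hm.not_dvd_of_degree_lt (C_ne_zero.mpr (sub_ne_zero.mpr hne)) ?_ (AdjoinRoot.mk_eq_zero.mp h4)
    rw [degree_C (sub_ne_zero.mpr hne), degree_X_pow_sub_C hp.out.pos a]
    exact_mod_cast hp.out.pos

/-- In characteristic `p` the `pⁿ`-th powers of a tower of length `n` lie in the base. -/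
theorem Tower.pow_mem {n : ℕ} {φ : A ⟶ B} (h : Tower p n φ) (h0 : (p : A) = 0) (b : B) :
    b ^ p ^ n ∈ φ.hom.range := by
  induction n generalizing A b with
  | zero =>
    haveI := (tower_zero_iff φ).1 h
    rw [pow_zero, pow_one]
    exact (ConcreteCategory.bijective_of_isIso φ).2 b
  | succ n ih =>
    obtain ⟨a, ψ, rfl, hψ⟩ := (tower_succ_iff φ).1 h
    have h0' : (p : Quiet.RootRing p A a) = 0 := by
      rw [← map_natCast (AdjoinRoot.of (X ^ p - C a : A[X])), h0, map_zero]
    obtain ⟨y, hy⟩ := ih hψ h0' b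
    have hF : ∀ y : Quiet.RootRing p A a, y ^ p ∈ (AdjoinRoot.of (X ^ p - C a : A[X])).range := by
      intro y
      obtain ⟨q, rfl⟩ := AdjoinRoot.mk_surjective y
      induction q using Polynomial.induction_on' with
      | add q r hq hr =>
        have := map_add (FrobSch.powHom p _ h0') (AdjoinRoot.mk _ q) (AdjoinRoot.mk (X ^ p - C a : A[X]) r)
        rw [map_add]
        change FrobSch.powHom p _ h0' (AdjoinRoot.mk _ q + AdjoinRoot.mk _ r) ∈ _
        rw [this]
        exact add_mem hq hr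
      | monomial i c =>
        refine ⟨c ^ p * a ^ i, ?_⟩
        have hroot : (AdjoinRoot.root (X ^ p - C a : A[X])) ^ p = AdjoinRoot.of _ a := by
          have := AdjoinRoot.eval₂_root (X ^ p - C a : A[X])
          rwa [eval₂_sub, eval₂_X_pow, eval₂_C, sub_eq_zero] at this
        rw [← C_mul_X_pow_eq_monomial, map_mul, map_pow, map_pow, map_mul, map_pow (AdjoinRoot.mk _), AdjoinRoot.mk_X, AdjoinRoot.mk_C,
          mul_pow, ← pow_mul, mul_comm i p, pow_mul, hroot]
    obtain ⟨x, hx⟩ := hF y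
    refine ⟨x, ?_⟩
    change ψ.hom (AdjoinRoot.of _ x) = _
    rw [hx, map_pow, show ψ.hom y = b ^ p ^ n from hy, ← pow_mul, pow_succ]

end Groth.Agent.H27Quiet
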